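import Groth.Agent.S3411
import Groth.Agent.S2556
import Groth.Agent.Lib.Unibr4.Scheme
import Groth.Agent.Lib.Unibr4.GoDown
import Groth.Agent.Lib.H12.Specialization
import Groth.Agent.Lib.EquidimAt4
import Groth.Agent.Lib.VarDim.Irred
import Mathlib.AlgebraicGeometry.Morphisms.Finite

/-!
Constant geometric number of points forces disjoint components.
-/

set_option autoImplicit false
set_option linter.style.haveILetI false
set_option backward.isDefEq.respectTransparency false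

universe u

open CategoryTheory CategoryTheory.Limits AlgebraicGeometry TopologicalSpace IsLocalRing Topology
open Groth.Agent.Weight

namespace Groth.Agent.DisjComp5

variable {X Y : Scheme.{u}}

/-- The points of a locally Noetherian scheme outside a component lie on other components. -/
theorem exists_max_ne [IsLocallyNoetherian X] {t₀ w : X}
    (hw : w ∈ closure ((closure ({t₀} : Set X))ᶜ)) :
    ∃ t : X, t ≠ t₀ ∧ t ⤳ w ∧ (∀ a, a ⤳ t → a = t) := by
  obtain ⟨U, hU, hwU, -⟩ := exists_isAffineOpen_mem_and_subset (x := w) (U := (⊤ : X.Opens)) trivial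
  haveI := IsLocallyNoetherian.component_noetherian (X := X) ⟨U, hU⟩
  haveI : NoetherianSpace (U : Scheme.{u}) := noetherianSpace_of_isAffineOpen U hU
  let M : Set X := {t | t ∈ U ∧ (∀ a, a ⤳ t → a = t)}
  have hM : M.Finite := by
    refine Set.Finite.of_finite_image (f := fun t : X => (Subtype.val ⁻¹' closure ({t} : Set X) : Set (U : Scheme.{u})))
      ((NoetherianSpace.finite_irreducibleComponents (α := (U : Scheme.{u}))).subset ?_) ?_
    · rintro _ ⟨t, ⟨htU, ht⟩, rfl⟩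
      have h1 := (VarDim.maximal_iff_mem_irreducibleComponents (X := (U : Scheme.{u})) ⟨t, htU⟩).1
        fun a ha => Subtype.ext (ht a.1 (ha.map continuous_subtype_val))
      convert h1 using 1
      refine (U.2.isOpenMap_subtype_val.preimage_closure_eq_closure_preimage continuous_subtype_val _).trans ?_
      congr 1
      exact Set.ext fun a => ⟨fun h => Subtype.ext h, fun h => congrArg Subtype.val h⟩
    · intro t ⟨htU, ht⟩ a ⟨haU, ha⟩ he
      have h4 : (⟨t, htU⟩ : (U : Scheme.{u})) ∈ (Subtype.val ⁻¹' closure ({t} : Set X) : Set (U : Scheme.{u})) :=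
        subset_closure rfl
      simp only [] at he
      rw [he] at h4
      exact (ht a (specializes_iff_mem_closure.2 h4)).symm
  have hsub : (U : Set X) ∩ (closure ({t₀} : Set X))ᶜ ⊆ ⋃ t ∈ M \ {t₀}, closure ({t} : Set X) := by
    rintro z ⟨hzU, hz⟩
    obtain ⟨t, htz, ht⟩ := EquidimAt4.exists_max_specializes z
    refine Set.mem_iUnion₂.2 ⟨t, ⟨⟨htz.mem_open U.2 hzU, ht⟩, fun h => hz ?_⟩, specializes_iff_mem_closure.1 htz⟩
    exact specializes_iff_mem_closure.1 (Set.mem_singleton_iff.1 h ▸ htz)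
  have hcl : IsClosed (⋃ t ∈ M \ {t₀}, closure ({t} : Set X)) :=
    (hM.subset Set.sdiff_subset).isClosed_biUnion fun _ _ => isClosed_closure
  have hwm := hcl.closure_subset (closure_mono hsub (U.2.inter_closure ⟨hwU, hw⟩))
  obtain ⟨t, ⟨⟨-, ht⟩, hne⟩, htw⟩ := Set.mem_iUnion₂.1 hwm
  exact ⟨t, hne, specializes_iff_mem_closure.2 htw, ht⟩

/-- Geometric points over a point with isomorphic residue field lift uniquely. -/
theorem existsUnique_lift {P : Scheme.{u}} (π : P ⟶ X) (p : P) (hs : Function.Surjective (π.stalkMap p))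
    {Ω : Type u} [Field Ω] [IsAlgClosed Ω] (hq : π.QuasiFiniteAt p) (a : Spec (CommRingCat.of Ω) ⟶ X)
    (ha : pt a = π p) : ∃! c : Spec (CommRingCat.of Ω) ⟶ P, c ≫ π = a ∧ pt c = p := by
  obtain ⟨c, hc⟩ := exists_lift_of_eq π p hq a ha.symm
  refine ⟨c, hc, fun c' hc' => ?_⟩
  obtain ⟨e, he⟩ := exists_eq_fieldPt c p hc.2
  obtain ⟨e', he'⟩ := exists_eq_fieldPt c' p hc'.2
  have h : fieldPt (π p) (π.residueFieldMap p ≫ e') = fieldPt (π p) (π.residueFieldMap p ≫ e) := by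
    rw [← fieldPt_comp, ← fieldPt_comp, he, he', hc.1, hc'.1]
  have hsurj : Function.Surjective (π.residueFieldMap p) := fun z => by
    obtain ⟨z, rfl⟩ := P.residue_surjective p z
    obtain ⟨s, rfl⟩ := hs z
    exact ⟨X.residue (π p) s, ConcreteCategory.congr_hom (Scheme.residue_residueFieldMap π p) s⟩
  have heq : e' = e := by
    refine CommRingCat.hom_ext (RingHom.ext fun z => ?_)
    obtain ⟨s, rfl⟩ := hsurj z
    exact ConcreteCategory.congr_hom (fieldPt_injective (π p) h) s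
  rw [← he, ← he', heq]

variable [IsLocallyNoetherian Y]

theorem disjoint_components (hY : ∀ y : Y, CAlg2.IsGeomUnibranch (Y.presheaf.stalk y)) (f : X ⟶ Y)
    [IsSeparated f] [LocallyQuasiFinite f] [LocallyOfFiniteType f] [QuasiCompact f] [UniversallyOpen f]
    (hn : IsLocallyConstant (fun z : Y => MoreMor.nGeomConnComp f z))
    {t₀ t₁ x : X} (h₀ : ∀ a, a ⤳ t₀ → a = t₀) (h₁ : ∀ a, a ⤳ t₁ → a = t₁) (hne : t₁ ≠ t₀)
    (hx₀ : t₀ ⤳ x) (hx₁ : t₁ ⤳ x) : False := by
  classical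
  haveI : IsLocallyNoetherian X := LocallyOfFiniteType.isLocallyNoetherian f
  have hgen := H12.generalizingMap_of_isOpenMap f f.isOpenMap
  have hfmax : ∀ t : X, (∀ a, a ⤳ t → a = t) → ∀ b, b ⤳ f t → b = f t := fun t ht b hb => by
    obtain ⟨a, ha, rfl⟩ := hgen hb
    rw [ht a ha]
  have hfib : ∀ {a b : X}, a ⤳ b → f a = f b → a = b := fun {a b} hab he => by
    have h1 := (isDiscrete_iff_discreteTopology.1 (f.isDiscrete_preimage_singleton (f a)))
    have h2 : (⟨a, rfl⟩ : ↥(f ⁻¹' {f a})) ⤳ ⟨b, he.symm⟩ := (subtype_specializes_iff _ _).2 hab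
    exact congrArg Subtype.val h2.eq
  -- the two parts
  let C₀ : Closeds X := ⟨closure {t₀}, isClosed_closure⟩
  let C₁ : Closeds X := ⟨closure ((closure ({t₀} : Set X))ᶜ), isClosed_closure⟩
  let Z₀ := (Scheme.IdealSheafData.vanishingIdeal C₀).subscheme
  let Z₁ := (Scheme.IdealSheafData.vanishingIdeal C₁).subscheme
  let j₀ : Z₀ ⟶ X := (Scheme.IdealSheafData.vanishingIdeal C₀).subschemeι
  let j₁ : Z₁ ⟶ X := (Scheme.IdealSheafData.vanishingIdeal C₁).subschemeι
  have hr₀ : Set.range j₀ = closure {t₀} := by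
    rw [Scheme.IdealSheafData.range_subschemeι, Scheme.IdealSheafData.coe_support_vanishingIdeal]; rfl
  have hr₁ : Set.range j₁ = closure ((closure ({t₀} : Set X))ᶜ) := by
    rw [Scheme.IdealSheafData.range_subschemeι, Scheme.IdealSheafData.coe_support_vanishingIdeal]; rfl
  let P := Z₀ ⨿ Z₁
  let i₀ : Z₀ ⟶ P := coprod.inl
  let i₁ : Z₁ ⟶ P := coprod.inr
  let π : P ⟶ X := coprod.desc j₀ j₁
  haveI : IsFinite π := inferInstanceAs (IsFinite (coprod.desc j₀ j₁))
  haveI : LocallyOfFiniteType π := inferInstance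
  haveI : LocallyQuasiFinite π := inferInstance
  have hπ₀ : i₀ ≫ π = j₀ := coprod.inl_desc _ _
  have hπ₁ : i₁ ≫ π = j₁ := coprod.inr_desc _ _
  have hcase : ∀ p : P, (∃ z, i₀ z = p) ∨ ∃ z, i₁ z = p := fun p => by
    obtain ⟨z | z, rfl⟩ := (coprodMk Z₀ Z₁).surjective p
    · exact Or.inl ⟨z, (coprodMk_inl Z₀ Z₁ z).symm⟩
    · exact Or.inr ⟨z, (coprodMk_inr Z₀ Z₁ z).symm⟩
  have hdis : ∀ z z', i₀ z ≠ i₁ z' := fun z z' h => by
    have : coprodMk Z₀ Z₁ (Sum.inl z) = coprodMk Z₀ Z₁ (Sum.inr z') := by rw [coprodMk_inl, coprodMk_inr]; exact h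
    exact Sum.inl_ne_inr ((coprodMk Z₀ Z₁).injective this)
  have hs : ∀ p : P, Function.Surjective (π.stalkMap p) := by
    have aux : ∀ {Z : Scheme.{u}} (i : Z ⟶ P) [IsOpenImmersion i] (j : Z ⟶ X) [IsClosedImmersion j],
        i ≫ π = j → ∀ z, Function.Surjective (π.stalkMap (i z)) := by
      intro Z i _ j _ h z
      subst h
      have h1 : Function.Surjective ((i ≫ π).stalkMap z) := Scheme.Hom.stalkMap_surjective _ z
      rw [Scheme.Hom.stalkMap_comp] at h1
      intro s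
      obtain ⟨r, hr⟩ := h1 (i.stalkMap z s)
      exact ⟨r, (ConcreteCategory.bijective_of_isIso (i.stalkMap z)).1 hr⟩
    intro p
    rcases hcase p with ⟨z, rfl⟩ | ⟨z, rfl⟩
    · exact aux i₀ j₀ hπ₀ z
    · exact aux i₁ j₁ hπ₁ z
  -- every point has a preimage, and a maximal one only one
  have hsurj : Function.Surjective π := fun w => by
    by_cases hw : w ∈ closure ({t₀} : Set X)
    · obtain ⟨z, hz⟩ : w ∈ Set.range j₀ := hr₀ ▸ hw
      exact ⟨i₀ z, by rw [← Scheme.Hom.comp_apply, hπ₀, hz]⟩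
    · obtain ⟨z, hz⟩ : w ∈ Set.range j₁ := hr₁ ▸ subset_closure hw
      exact ⟨i₁ z, by rw [← Scheme.Hom.comp_apply, hπ₁, hz]⟩
  have hr₀' : ∀ z, t₀ ⤳ π (i₀ z) := fun z => by
    rw [← Scheme.Hom.comp_apply, hπ₀, specializes_iff_mem_closure, ← hr₀]; exact ⟨z, rfl⟩
  have hr₁' : ∀ z, π (i₁ z) ∈ closure ((closure ({t₀} : Set X))ᶜ) := fun z => by
    rw [← Scheme.Hom.comp_apply, hπ₁, ← hr₁]; exact ⟨z, rfl⟩
  have hinj : ∀ p p' : P, π p = π p' → (∀ a, a ⤳ π p → a = π p) → p = p' := by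
    have mixed : ∀ z z', π (i₀ z) = π (i₁ z') → (∀ a, a ⤳ π (i₀ z) → a = π (i₀ z)) → False := by
      intro z z' h hmax
      have e0 : t₀ = π (i₀ z) := hmax _ (hr₀' z)
      obtain ⟨t, htne, ht, -⟩ := exists_max_ne (hr₁' z')
      exact htne ((hmax t (h ▸ ht)).trans e0.symm)
    intro p p' h hmax
    rcases hcase p with ⟨z, rfl⟩ | ⟨z, rfl⟩ <;> rcases hcase p' with ⟨z', rfl⟩ | ⟨z', rfl⟩
    · rw [← Scheme.Hom.comp_apply, ← Scheme.Hom.comp_apply, hπ₀] at h
      rw [j₀.isEmbedding.injective h]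
    · exact (mixed z z' h hmax).elim
    · exact (mixed z' z h.symm (h ▸ hmax)).elim
    · rw [← Scheme.Hom.comp_apply, ← Scheme.Hom.comp_apply, hπ₁] at h
      rw [j₁.isEmbedding.injective h]
  -- the covering is universally open
  let g := π ≫ f
  have hgo : UniversallyOpen g := by
    rw [Groth.Agent.S2556.result hY g]
    refine Unibr4.isOpenMap_of_isOpenAt fun p => ?_
    have hmk : ∀ {Z : Scheme.{u}} (i : Z ⟶ P) (j : Z ⟶ X) [IsClosedImmersion j], i ≫ π = j →
        ∀ z : Z, ∀ t ∈ Set.range j, (∀ a, a ⤳ t → a = t) → t ⤳ π (i z) → EGA43.IsOpenAt g.base (i z) := by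
      rintro Z i j _ h z _ ⟨s, rfl⟩ hmax hsp
      subst h
      refine Unibr4.isOpenAt g (i z) (i s) (Or.inl inferInstance) (hY _).1
        ((((i ≫ π).isEmbedding.isInducing.specializes_iff).1 hsp).map i.continuous) ?_ (g.quasiFiniteAt _)
      exact hfmax _ hmax
    rcases hcase p with ⟨z, rfl⟩ | ⟨z, rfl⟩
    · exact hmk i₀ j₀ hπ₀ z t₀ (hr₀ ▸ subset_closure rfl) h₀ (hr₀' z)
    · obtain ⟨t, htne, ht, htmax⟩ := exists_max_ne (hr₁' z)
      refine hmk i₁ j₁ hπ₁ z t ?_ htmax ht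
      rw [hr₁]
      exact subset_closure fun h => htne (htmax t₀ (specializes_iff_mem_closure.2 h)).symm
  haveI := hgo
  -- choose the generic point
  obtain ⟨η, hη, hηmax⟩ := EquidimAt4.exists_max_specializes (f x)
  have hconst : MoreMor.nGeomConnComp f η = MoreMor.nGeomConnComp f (f x) :=
    (hη.mem_open (hn.isOpen_fiber (MoreMor.nGeomConnComp f (f x))) rfl)
  obtain ⟨V, hV, hVle⟩ := Groth.Agent.S3411.result g (f x) fun p _ => Unibr4.isUnivOpenAt_of_universallyOpen g p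
  obtain ⟨V', hV'V, hV'o, hV'x⟩ := mem_nhds_iff.1 hV
  have hle := hVle η (hV'V (hη.mem_open hV'o hV'x))
  -- count over the generic point
  obtain ⟨t, ht⟩ := exists_geomPt η
  have hηeq : MoreMor.nGeomConnComp g η = MoreMor.nGeomConnComp f η := by
    rw [GeomPts5.nGeomConnComp_eq_card g t η ht, GeomPts5.nGeomConnComp_eq_card f t η ht]
    refine ENat.card_congr (Equiv.ofBijective
      (fun c => ⟨c.1 ≫ π, by rw [Category.assoc]; exact c.2⟩) ⟨fun c c' h => ?_, fun a => ?_⟩)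
    · have h' : c.1 ≫ π = c'.1 ≫ π := congrArg Subtype.val h
      have hw : f (π (pt c.1)) = η := by
        rw [← Scheme.Hom.comp_apply, ← pt_comp, c.2, ht]
      have hpp : pt c.1 = pt c'.1 := hinj _ _ (by rw [← pt_comp, ← pt_comp, h']) fun a ha =>
        hfib ha (by rw [hw]; exact hηmax _ (hw ▸ ha.map f.continuous))
      exact Subtype.ext ((existsUnique_lift π _ (hs _) (π.quasiFiniteAt _) (c.1 ≫ π) rfl).unique ⟨rfl, rfl⟩
        ⟨h'.symm, hpp.symm⟩)
    · obtain ⟨p, hp⟩ := hsurj (pt a.1)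
      obtain ⟨c, ⟨hc, -⟩, -⟩ := existsUnique_lift π p (hs p) (π.quasiFiniteAt p) a.1 hp.symm
      exact ⟨⟨c, by rw [← Category.assoc, hc]; exact a.2⟩, Subtype.ext hc⟩
  -- count over the special point
  obtain ⟨s, hst⟩ := exists_geomPt (f x)
  have hlt : MoreMor.nGeomConnComp f (f x) < MoreMor.nGeomConnComp g (f x) := by
    rw [GeomPts5.nGeomConnComp_eq_card g s _ hst, GeomPts5.nGeomConnComp_eq_card f s _ hst]
    let S := {a : Spec (CommRingCat.of (AlgebraicClosure (Y.residueField (f x)))) ⟶ X // a ≫ f = s}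
    haveI : Finite S := by
      have hfin : (f ⁻¹' {f x}).Finite := f.finite_preimage_singleton (f x)
      haveI := hfin.to_subtype
      haveI : ∀ w : ↥(f ⁻¹' {f x}), Finite {a : Spec (CommRingCat.of (AlgebraicClosure (Y.residueField (f x)))) ⟶ X //
          a ≫ f = s ∧ pt a = w.1} := fun w => (natCard_lifts_over f w.1 (f.quasiFiniteAt _) s (w.2.trans hst.symm)).2
      refine Finite.of_surjective
        (fun q : Σ w : ↥(f ⁻¹' {f x}), {a : Spec (CommRingCat.of (AlgebraicClosure (Y.residueField (f x)))) ⟶ X //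
          a ≫ f = s ∧ pt a = w.1} => (⟨q.2.1, q.2.2.1⟩ : S)) fun a => ?_
      exact ⟨⟨⟨pt a.1, show f (pt a.1) = f x by rw [← pt_comp, a.2, hst]⟩, a.1, a.2, rfl⟩, rfl⟩
    obtain ⟨a, ha, hax⟩ := exists_lift_of_eq f x (f.quasiFiniteAt x) s hst.symm
    obtain ⟨z₀, hz₀⟩ : x ∈ Set.range j₀ := hr₀ ▸ specializes_iff_mem_closure.1 hx₀
    obtain ⟨z₁, hz₁⟩ : x ∈ Set.range j₁ := by
      rw [hr₁]
      refine hx₁.mem_closed isClosed_closure (subset_closure fun h => hne ?_)
      exact (h₁ t₀ (specializes_iff_mem_closure.2 h)).symm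
    have hp₀ : π (i₀ z₀) = x := by rw [← Scheme.Hom.comp_apply, hπ₀, hz₀]
    have hp₁ : π (i₁ z₁) = x := by rw [← Scheme.Hom.comp_apply, hπ₁, hz₁]
    let T := {c : Spec (CommRingCat.of (AlgebraicClosure (Y.residueField (f x)))) ⟶ P // c ≫ g = s}
    let F : T → S := fun c => ⟨c.1 ≫ π, by rw [Category.assoc]; exact c.2⟩
    have hFs : Function.Surjective F := fun b => by
      obtain ⟨p, hp⟩ := hsurj (pt b.1)
      obtain ⟨c, ⟨hc, -⟩, -⟩ := existsUnique_lift π p (hs p) (π.quasiFiniteAt p) b.1 hp.symm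
      exact ⟨⟨c, by rw [← Category.assoc, hc]; exact b.2⟩, Subtype.ext hc⟩
    obtain ⟨c₀, ⟨hc₀, hc₀'⟩, -⟩ := existsUnique_lift π (i₀ z₀) (hs _) (π.quasiFiniteAt _) a (hax.trans hp₀.symm)
    obtain ⟨c₁, ⟨hc₁, hc₁'⟩, -⟩ := existsUnique_lift π (i₁ z₁) (hs _) (π.quasiFiniteAt _) a (hax.trans hp₁.symm)
    have hFn : ¬ Function.Injective F := fun h => by
      have := @h ⟨c₀, by rw [← Category.assoc, hc₀]; exact ha⟩ ⟨c₁, by rw [← Category.assoc, hc₁]; exact ha⟩
        (Subtype.ext (hc₀.trans hc₁.symm))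
      exact hdis z₀ z₁ (hc₀'.symm.trans ((congrArg (fun c : T => pt c.1) this).trans hc₁'))
    rcases finite_or_infinite T with hT | hT
    · rw [ENat.card_eq_coe_natCard, ENat.card_eq_coe_natCard]
      exact_mod_cast lt_of_le_of_ne (Nat.card_le_card_of_surjective F hFs)
        fun e => hFn ((Nat.bijective_iff_surjective_and_card F).2 ⟨hFs, e.symm⟩).1
    · rw [ENat.card_eq_top_of_infinite (α := T)]
      exact ENat.card_lt_top.2 ‹Finite S›
  rw [hηeq, hconst] at hle
  exact absurd hlt (not_lt.2 hle)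

end Groth.Agent.DisjComp5
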